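import Groth.Agent.Lib.OrbitDim.Basic
import Groth.Agent.Lib.GrpSchField.GrpDim
import Groth.Agent.Lib.AffDom.FibreDim
import Groth.Agent.Lib.DimCut.Basic
import Groth.Agent.Lib.GITQuot.Orbit

/-!
The dimension formula for orbits of rational points.
-/

universe u

open CategoryTheory CategoryTheory.Limits MonoidalCategory CartesianMonoidalCategory MonObj GrpObj
open AlgebraicGeometry TopologicalSpace Topology GrothLib.AffDom

namespace GrothLib.OrbitDim

variable {K : Type u} [Field K] {G X : Over (Spec (CommRingCat.of K))} [GrpObj G]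
  (a : AlgGrp.Action G X) (x : 𝟙_ (Over (Spec (CommRingCat.of K))) ⟶ X)

local notation "e₀" => IsLocalRing.closedPoint K

theorem orbitMap_translate (γ : 𝟙_ (Over (Spec (CommRingCat.of K))) ⟶ G) :
    ((toUnit G ≫ γ) * 𝟙 G) ≫ a.orbitMap x =
      a.orbitMap x ≫ lift (toUnit X ≫ γ) (𝟙 X) ≫ a.act := by
  simp only [AlgGrp.Action.orbitMap, comp_lift_assoc, Category.comp_id, comp_toUnit_assoc, ← GrothLib.GrpSchField.act_mul]

theorem isClosed_pt {P : Scheme.{u}} (π : P ⟶ Spec (CommRingCat.of K)) (σ : Spec (CommRingCat.of K) ⟶ P)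
    (hσ : σ ≫ π = 𝟙 _) : IsClosed ({σ e₀} : Set P) := by
  have h := GrothLib.GITQuot.isClosed_range_section (Iso.refl _) π σ hσ
  rwa [Set.range_unique, Subsingleton.elim (default : Spec (CommRingCat.of K)) e₀] at h

theorem exists_ptOfClosed [IsAlgClosed K] [LocallyOfFiniteType G.hom] {g : G.left}
    (hg : IsClosed ({g} : Set G.left)) :
    ∃ γ : 𝟙_ (Over (Spec (CommRingCat.of K))) ⟶ G, γ.left e₀ = g :=
  ⟨Over.homMk (pointOfClosedPoint G.hom g hg) (by simp), pointOfClosedPoint_apply G.hom g hg _⟩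

/-- Some translation carries one closed point to the other, and the fibres of the orbit map into
each other. -/
theorem exists_translate [IsAlgClosed K] [LocallyOfFiniteType G.hom] {g₁ g₂ : G.left}
    (h₁ : IsClosed ({g₁} : Set G.left)) (h₂ : IsClosed ({g₂} : Set G.left)) :
    ∃ L : G.left ≅ G.left, L.hom g₁ = g₂ ∧
      ∀ p, (a.orbitMap x).left p = (a.orbitMap x).left g₁ →
        (a.orbitMap x).left (L.hom p) = (a.orbitMap x).left g₂ := by
  obtain ⟨γ₁, hγ₁⟩ := exists_ptOfClosed h₁
  obtain ⟨γ₂, hγ₂⟩ := exists_ptOfClosed h₂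
  let γ := γ₂ * γ₁⁻¹
  let L : G ≅ G :=
    { hom := (toUnit G ≫ γ) * 𝟙 G
      inv := (toUnit G ≫ γ)⁻¹ * 𝟙 G
      hom_inv_id := by simp [MonObj.comp_mul, GrpObj.comp_inv, comp_toUnit_assoc, ← _root_.mul_assoc]
      inv_hom_id := by simp [MonObj.comp_mul, GrpObj.comp_inv, comp_toUnit_assoc, ← _root_.mul_assoc] }
  have h : γ₁ ≫ L.hom = γ₂ := by
    simp [L, γ, MonObj.comp_mul, comp_toUnit_assoc, Subsingleton.elim (toUnit (𝟙_ (Over (Spec (CommRingCat.of K))))) (𝟙 _)]
  refine ⟨(Over.forget _).mapIso L, ?_, fun p hp => ?_⟩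
  · show L.hom.left g₁ = g₂
    rw [← hγ₁, ← hγ₂, ← Scheme.Hom.comp_apply, ← Over.comp_left, h]
  · show (a.orbitMap x).left (L.hom.left p) = _
    have hg : L.hom.left g₁ = g₂ := by
      rw [← hγ₁, ← hγ₂, ← Scheme.Hom.comp_apply, ← Over.comp_left, h]
    rw [← hg, ← Scheme.Hom.comp_apply, ← Scheme.Hom.comp_apply, ← Over.comp_left, orbitMap_translate,
      Over.comp_left, Scheme.Hom.comp_apply, Scheme.Hom.comp_apply, hp]

variable [IsAlgClosed K] [LocallyOfFiniteType G.hom] [QuasiCompact G.hom]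
  [LocallyOfFiniteType X.hom] [QuasiCompact X.hom]

/-- The dimension formula, with the stabilizer as a set. -/
theorem dim_eq_add :
    topologicalKrullDim G.left = topologicalKrullDim (Set.range (a.orbitMap x).left) +
      topologicalKrullDim ((a.orbitMap x).left ⁻¹' {x.left e₀} : Set G.left) := by
  let f := (a.orbitMap x).left
  have : IsLocallyNoetherian G.left := LocallyOfFiniteType.isLocallyNoetherian G.hom
  have : IsLocallyNoetherian X.left := LocallyOfFiniteType.isLocallyNoetherian X.hom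
  have : CompactSpace G.left := (quasiCompact_iff_compactSpace G.hom).1 inferInstance
  have : IsNoetherian G.left := {}
  have : JacobsonSpace G.left := LocallyOfFiniteType.jacobsonSpace G.hom
  have hf : f ≫ X.hom = G.hom := Over.w _
  have : QuasiCompact (f ≫ X.hom) := by rw [hf]; infer_instance
  have : QuasiCompact f := QuasiCompact.of_comp _ X.hom
  have : LocallyOfFiniteType (f ≫ X.hom) := by rw [hf]; infer_instance
  have : LocallyOfFiniteType f := locallyOfFiniteType_of_comp f X.hom
  obtain ⟨U₀, C₀, hU₀, hC₀, hO⟩ := GrothLib.GrpSchField.isLocallyClosed_range_orbitMap a x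
  let F : Set G.left := f ⁻¹' {x.left e₀}
  have hFc : IsClosed F :=
    (isClosed_pt X.hom x.left (Over.w x)).preimage f.continuous
  -- the dimensions are natural numbers
  obtain ⟨n, hn⟩ : ∃ n : ℕ, topologicalKrullDim G.left = n := by
    let Z := irreducibleComponent (η[G].left e₀)
    have hZ := irreducibleComponent_mem_irreducibleComponents (η[G].left e₀)
    obtain ⟨n, hn, -⟩ := GrothLib.Dim.exists_nat_dim_irreducible G.hom
      (isClosed_of_mem_irreducibleComponents Z hZ) hZ.1
    exact ⟨n, by rw [← GrothLib.GrpSchField.topologicalKrullDim_component G hZ, hn]⟩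
  obtain ⟨t₀, ht₀, ht₀c⟩ := nonempty_inter_closedPoints
    (Z := F) ⟨η[G].left e₀, by
      show f (η[G].left e₀) = x.left e₀
      rw [← Scheme.Hom.comp_apply, ← Over.comp_left]
      refine congrArg (fun m : 𝟙_ (Over (Spec (CommRingCat.of K))) ⟶ X => m.left e₀) ?_
      simp only [AlgGrp.Action.orbitMap, comp_lift_assoc, comp_toUnit_assoc, Category.comp_id]
      rw [Subsingleton.elim (toUnit (𝟙_ (Over (Spec (CommRingCat.of K))))) (𝟙 _), Category.id_comp]
      refine Eq.trans ?_ (GrothLib.GrpSchField.act_one a x)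
      rw [Hom.one_def, Subsingleton.elim (toUnit (𝟙_ (Over (Spec (CommRingCat.of K))))) (𝟙 _), Category.id_comp]⟩ hFc.isLocallyClosed
  have : Nonempty F := ⟨⟨t₀, ht₀⟩⟩
  have : QuasiSober F := hFc.isClosedEmbedding_subtypeVal.quasiSober
  have hFpt : ∀ q : F, topologicalKrullDim (closure {q} : Set F) = ptDim q.1 := fun q =>
    GrothLib.DimCut.ptDim_of_isEmbedding IsEmbedding.subtypeVal q
      fun y hy => ⟨⟨y, hy.mem_closed hFc q.2⟩, rfl⟩
  have hFsup : topologicalKrullDim F = ⨆ q : F, ptDim q.1 := by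
    rw [topologicalKrullDim_eq_iSup F]; exact iSup_congr hFpt
  obtain ⟨s, hs⟩ : ∃ s : ℕ, topologicalKrullDim F = s := by
    have h0 : (0 : WithBot ℕ∞) ≤ topologicalKrullDim F :=
      hFsup ▸ le_iSup_of_le (⟨t₀, ht₀⟩ : F) (ptDim_nonneg _)
    have hle : topologicalKrullDim F ≤ n := hn ▸ topologicalKrullDim_subspace_le _ _
    generalize topologicalKrullDim F = m at h0 hle
    induction m using WithBot.recBotCoe with
    | bot => exact absurd h0 (not_le.2 (WithBot.bot_lt_coe _))
    | coe m =>
      induction m using ENat.recTopCoe with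
      | top => exact absurd hle (not_le.2 (WithBot.coe_lt_coe.2 (ENat.coe_lt_top n)))
      | coe m => exact ⟨m, rfl⟩
  obtain ⟨w, hw⟩ := exists_le_of_le_iSup (d := fun q : F => ptDim q.1) (fun q => ptDim_nonneg _) s
    (by rw [← hFsup, hs])
  obtain ⟨t, ht, htc⟩ := nonempty_inter_closedPoints (Z := closure {(w : G.left)})
    ⟨_, subset_closure rfl⟩ isClosed_closure.isLocallyClosed
  have htF : t ∈ F := (closure_minimal (Set.singleton_subset_iff.2 w.2) hFc) ht
  -- each component
  have hcomp : ∀ ξ : G.left, closure {ξ} ∈ irreducibleComponents G.left →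
      ∃ d : ℕ, ptDim (f ξ) = d ∧ n = d + s := by
    intro ξ hξ
    have hξn : ptDim ξ = n := by rw [ptDim, GrothLib.GrpSchField.topologicalKrullDim_component G hξ, hn]
    have hξo : IsOpen (closure {ξ}) := GrothLib.GrpSchField.isOpen_of_mem_irreducibleComponents G hξ
    obtain ⟨V, U, e, hUW, hξU, -, hUV, hdim, hup, hlift⟩ :=
      exists_generic_opens X.hom f ξ ⟨closure {ξ}, hξo⟩ (subset_closure rfl)
    obtain ⟨g, hgU, hgc⟩ := nonempty_inter_closedPoints (Z := (U : Set G.left)) ⟨ξ, hξU⟩ U.2.isLocallyClosed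
    have hy : IsClosed ({f g} : Set X.left) := by
      obtain ⟨γ, hγ⟩ := exists_ptOfClosed hgc
      rw [← hγ, ← Scheme.Hom.comp_apply]
      exact isClosed_pt X.hom (γ ≫ a.orbitMap x).left (Over.w _)
    have hy0 : ptDim (f g) = 0 := by
      rw [ptDim, hy.closure_eq]
      refine le_antisymm (topologicalKrullDim_zero_of_discreteTopology _) ?_
      have := ptDim_nonneg (f g)
      rwa [ptDim, hy.closure_eq] at this
    have hξg : ξ ⤳ g := specializes_iff_mem_closure.2 (hUW hgU)
    have hes : e = s := by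
      apply le_antisymm
      · obtain ⟨z, hzU, -, hzy, hzd⟩ := hlift (f g) (hUV g hgU) (hξg.map f.continuous)
        obtain ⟨L, hL, hLf⟩ := exists_translate a x hgc htc
        have hLz : L.hom z ∈ F := (hLf z hzy).trans htF
        have h1 : ptDim (L.hom z) ≤ topologicalKrullDim F :=
          hFsup ▸ le_iSup_of_le (⟨_, hLz⟩ : F) le_rfl
        rw [hs, ← GrothLib.DimCut.ptDim_immersion G.hom L.hom z, hzd, hy0, zero_add] at h1
        exact_mod_cast h1
      · obtain ⟨L, hL, hLf⟩ := exists_translate a x htc hgc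
        have hwg : L.hom w.1 ⤳ g := hL ▸ (specializes_iff_mem_closure.2 ht).map L.hom.continuous
        have hwU : L.hom w.1 ∈ U := hwg.mem_open U.2 hgU
        have hwξ : ξ ⤳ L.hom w.1 := specializes_iff_mem_closure.2 (hwg.mem_open hξo (hUW hgU))
        have h1 := hup _ hwU hwξ
        rw [hLf w.1 ((show f w.1 = x.left e₀ from w.2).trans htF.symm), hy0, zero_add,
          ← GrothLib.DimCut.ptDim_immersion G.hom L.hom w.1] at h1
        exact_mod_cast hw.trans h1
    obtain ⟨d, hd⟩ := exists_nat_ptDim X.hom (f ξ)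
    refine ⟨d, hd, ?_⟩
    rw [hξn, hd, hes] at hdim
    exact_mod_cast hdim
  -- assemble
  obtain ⟨ξ₀, hξ₀⟩ := QuasiSober.sober
    (isIrreducible_irreducibleComponent (x := η[G].left e₀)) isClosed_irreducibleComponent
  obtain ⟨d, hd, hnd⟩ := hcomp ξ₀ (hξ₀.def.symm ▸ irreducibleComponent_mem_irreducibleComponents _)
  suffices hOd : topologicalKrullDim (Set.range f) = d by
    rw [show ((a.orbitMap x).left ⁻¹' {x.left e₀} : Set G.left) = F from rfl, hs,
      show Set.range (a.orbitMap x).left = Set.range f from rfl, hOd, hn, hnd, Nat.cast_add]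
  apply le_antisymm
  · have hfinC : (irreducibleComponents G.left).Finite := NoetherianSpace.finite_irreducibleComponents
    let J := irreducibleComponents G.left
    have := hfinC.to_subtype
    choose ξ hξ using fun Z : J => QuasiSober.sober Z.2.1 (isClosed_of_mem_irreducibleComponents _ Z.2)
    let T : Set X.left := ⋃ Z : J, closure {f (ξ Z)}
    have hsub : Set.range f ⊆ T := by
      rintro _ ⟨g, rfl⟩
      refine Set.mem_iUnion.2 ⟨⟨_, irreducibleComponent_mem_irreducibleComponents g⟩, ?_⟩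
      exact specializes_iff_mem_closure.1 (((hξ _).specializes mem_irreducibleComponent).map f.continuous)
    refine (GrothLib.ConnDim.dim_mono hsub).trans ?_
    rw [GrothLib.NoethTop.dim_eq_iSup_of_locallyFinite_closed
      (fun Z : J => (Subtype.val ⁻¹' closure {f (ξ Z)} : Set T))
      (fun Z => isClosed_closure.preimage continuous_subtype_val) (locallyFinite_of_finite _)
      (Set.eq_univ_of_forall fun q => by
        obtain ⟨i, hi⟩ := Set.mem_iUnion.1 (show (q : X.left) ∈ ⋃ Z : J, closure {f (ξ Z)} from q.2)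
        exact Set.mem_iUnion.2 ⟨i, hi⟩)]
    refine iSup_le fun Z => (GrothLib.NoethTop.preimage_dim_le _ _).trans ?_
    obtain ⟨d', hd', hnd'⟩ := hcomp (ξ Z) ((hξ Z).def.symm ▸ Z.2)
    show ptDim (f (ξ Z)) ≤ _
    rw [hd', show d' = d by omega]
  · obtain ⟨m, hm, hmU⟩ := GrothLib.Dim.exists_nat_dim_irreducible X.hom (isClosed_closure (s := {f ξ₀}))
      isIrreducible_singleton.closure
    have hC : closure {f ξ₀} ⊆ C₀ :=
      hC₀.closure_subset_iff.2 (Set.singleton_subset_iff.2 (hO.subset (Set.mem_range_self ξ₀)).2)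
    rw [← hd]
    show topologicalKrullDim (closure {f ξ₀} : Set X.left) ≤ _
    rw [hm, ← hmU ⟨U₀, hU₀⟩ ⟨f ξ₀, subset_closure rfl, (hO.subset (Set.mem_range_self ξ₀)).1⟩]
    exact GrothLib.ConnDim.dim_mono fun q hq => hO.symm.subset ⟨hq.2, hC hq.1⟩

/-- The stabilizer has the dimension of the fibre. -/
theorem dim_stabilizer :
    topologicalKrullDim ↥(pullback (a.orbitMap x).left x.left) =
      topologicalKrullDim ((a.orbitMap x).left ⁻¹' {x.left e₀} : Set G.left) := by
  have : IsImmersion (x.left ≫ X.hom) := by rw [Over.w x]; exact inferInstanceAs (IsImmersion (𝟙 _))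
  have : IsImmersion x.left := IsImmersion.of_comp x.left X.hom
  refine GrothLib.Dim.IsEmbedding.topologicalKrullDim_eq (pullback.fst (a.orbitMap x).left x.left).isEmbedding ?_
  rw [Scheme.Pullback.range_fst]
  congr 1
  ext y
  constructor
  · rintro ⟨p, rfl⟩
    exact congrArg x.left (Subsingleton.elim (α := Spec (CommRingCat.of K)) _ _)
  · rintro rfl
    exact ⟨_, rfl⟩

end GrothLib.OrbitDim
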