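import Groth.Agent.Lib.GrpSchField.Orbit
import Groth.Agent.Lib.GrpSchField.Pts
import Groth.Agent.Lib.Dim.Scheme
import Groth.Agent.Lib.NoethTop.KrullDim
import Groth.Agent.Lib.ConnDim.Basic

/-!
The boundary of an orbit has smaller dimension than the orbit.
-/

universe u

open CategoryTheory CategoryTheory.Limits MonoidalCategory CartesianMonoidalCategory MonObj GrpObj
open AlgebraicGeometry TopologicalSpace Topology

namespace GrothLib.OrbitDim

variable {K : Type u} [Field K]

/-- The boundary of a nonempty locally closed subset of a scheme of finite type over a field has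
smaller dimension. -/
theorem dim_boundary_lt {X : Scheme.{u}} (f : X ⟶ Spec (CommRingCat.of K)) [LocallyOfFiniteType f]
    [QuasiCompact f] {S : Set X} (hS : IsLocallyClosed S) (hne : S.Nonempty) :
    topologicalKrullDim ↥(closure S \ S) < topologicalKrullDim ↥S := by
  have : IsLocallyNoetherian X := LocallyOfFiniteType.isLocallyNoetherian f
  have : CompactSpace X := (quasiCompact_iff_compactSpace f).1 inferInstance
  have : IsNoetherian X := {}
  have : NoetherianSpace X := inferInstance
  obtain ⟨U, C, hU, hC, rfl⟩ := hS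
  set S := U ∩ C with hSdef
  set B := closure S \ S with hBdef
  have hcl : closure S ⊆ C := hC.closure_subset_iff.2 Set.inter_subset_right
  have hB : B = closure S \ U := by
    ext x
    exact ⟨fun h => ⟨h.1, fun hx => h.2 ⟨hx, hcl h.1⟩⟩, fun h => ⟨h.1, fun hx => h.2 hx.1⟩⟩
  have hBc : IsClosed B := by rw [hB]; exact isClosed_closure.sdiff hU
  have hS0 : (0 : WithBot ℕ∞) ≤ topologicalKrullDim S := by
    have : Nonempty (IrreducibleCloseds S) := by
      obtain ⟨x, hx⟩ := hne
      exact ⟨⟨_, (isIrreducible_irreducibleComponent (x := (⟨x, hx⟩ : S))), isClosed_irreducibleComponent⟩⟩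
    exact Order.krullDim_nonneg
  rcases B.eq_empty_or_nonempty with h0 | hBne
  · rw [h0]
    haveI : IsEmpty (IrreducibleCloseds (∅ : Set X)) := ⟨fun s => s.2.nonempty.some.2.elim⟩
    rw [topologicalKrullDim, Order.krullDim_eq_bot]
    exact lt_of_lt_of_le (WithBot.bot_lt_coe _) hS0
  let F := irreducibleComponents (closure S : Set X)
  have hFfin : F.Finite := NoetherianSpace.finite_irreducibleComponents
  have key : ∀ Z ∈ irreducibleComponents B,
      topologicalKrullDim (Subtype.val '' Z : Set X) < topologicalKrullDim S := by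
    intro Z hZ
    let Z' : Set X := Subtype.val '' Z
    have hZ' : IsIrreducible Z' := hZ.1.image _ continuous_subtype_val.continuousOn
    have hZc : IsClosed Z' := hBc.isClosedEmbedding_subtypeVal.isClosedMap _ (isClosed_of_mem_irreducibleComponents Z hZ)
    have hZS : Z' ⊆ closure S := by
      rintro _ ⟨z, -, rfl⟩; exact z.2.1
    -- a component of the closure containing it
    obtain ⟨T, hT, hZT⟩ : ∃ T : Set X, (IsIrreducible T ∧ IsClosed T ∧ T ⊆ closure S ∧ (T ∩ U).Nonempty) ∧ Z' ⊆ T := by
      obtain ⟨s, hs⟩ := (NoetherianSpace.exists_finite_set_isClosed_irreducible (α := X) isClosed_closure : ∃ s : Set (Set X), s.Finite ∧ (∀ t ∈ s, IsClosed t) ∧ (∀ t ∈ s, IsIrreducible t) ∧ closure S = ⋃₀ s)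
      obtain ⟨hsf, hsc, hsi, hsu⟩ := hs
      let s' : Set (Set X) := {t ∈ s | (t ∩ U).Nonempty}
      have hs'f : s'.Finite := hsf.subset fun t ht => ht.1
      have hs'c : IsClosed (⋃₀ s') := by
        rw [Set.sUnion_eq_biUnion]; exact hs'f.isClosed_biUnion fun t ht => hsc t ht.1
      have hSs : S ⊆ ⋃₀ s' := by
        intro x hx
        obtain ⟨t, ht, hxt⟩ := hsu.subset (subset_closure hx)
        exact ⟨t, ⟨ht, x, hxt, hx.1⟩, hxt⟩
      have : Z' ⊆ ⋃₀ s' := hZS.trans (hs'c.closure_subset_iff.2 hSs)
      obtain ⟨t, ht, hZt⟩ := isIrreducible_iff_sUnion_isClosed.1 hZ' hs'f.toFinset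
        (fun t ht => hsc t (hs'f.mem_toFinset.1 ht).1) (by rwa [hs'f.coe_toFinset])
      have ht' := hs'f.mem_toFinset.1 ht
      exact ⟨t, ⟨hsi t ht'.1, hsc t ht'.1, hsu ▸ Set.subset_sUnion_of_mem ht'.1, ht'.2⟩, hZt⟩
    obtain ⟨hTi, hTc, hTS, hTU⟩ := hT
    have hne' : Z' ≠ T := by
      rintro rfl
      obtain ⟨_, ⟨z, -, rfl⟩, hxU⟩ := hTU
      exact (hB.subset z.2).2 hxU
    obtain ⟨n, hn, hnU⟩ := GrothLib.Dim.exists_nat_dim_irreducible f hTc hTi
    refine (GrothLib.ConnDim.dim_lt hZT hne' hZc hTc hTi (by rw [hn]; exact WithBot.coe_lt_coe.2 (ENat.coe_lt_top n))).trans_le ?_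
    rw [hn, ← hnU ⟨U, hU⟩ hTU]
    exact GrothLib.ConnDim.dim_mono fun x hx => ⟨hx.2, hcl (hTS hx.1)⟩
  have : Nonempty B := hBne.to_subtype
  have hfin : (irreducibleComponents B).Finite := NoetherianSpace.finite_irreducibleComponents
  have := hfin.to_subtype
  have : Nonempty (irreducibleComponents B) := ⟨⟨_, irreducibleComponent_mem_irreducibleComponents (Classical.arbitrary B)⟩⟩
  rw [GrothLib.NoethTop.dim_eq_iSup_of_locallyFinite_closed (fun Z : irreducibleComponents B => (Z : Set B))
    (fun Z => isClosed_of_mem_irreducibleComponents _ Z.2) (locallyFinite_of_finite _)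
    (by rw [← Set.sUnion_eq_iUnion, sUnion_irreducibleComponents])]
  obtain ⟨Z, hZ⟩ := exists_eq_ciSup_of_finite (f := fun Z : irreducibleComponents B => topologicalKrullDim (Z : Set B))
  rw [← hZ]
  refine lt_of_le_of_lt (le_of_eq ?_) (key Z Z.2)
  exact GrothLib.Dim.IsEmbedding.topologicalKrullDim_eq (IsEmbedding.subtypeVal.comp IsEmbedding.subtypeVal)
    (by rw [Set.range_comp, Subtype.range_coe])

variable {G X : Over (Spec (CommRingCat.of K))} [GrpObj G]
  (a : AlgGrp.Action G X) (x : 𝟙_ (Over (Spec (CommRingCat.of K))) ⟶ X)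

/-- The boundary of an orbit is stable. -/
theorem preimage_act_boundary :
    a.act.left ⁻¹' (closure (Set.range (a.orbitMap x).left) \ Set.range (a.orbitMap x).left) =
      (snd G X).left ⁻¹' (closure (Set.range (a.orbitMap x).left) \ Set.range (a.orbitMap x).left) := by
  have hs : UniversallyOpen (snd G X).left :=
    inferInstanceAs (UniversallyOpen (pullback.snd G.hom X.hom))
  have ha : UniversallyOpen a.act.left := by
    have := GrothLib.GrpSchField.isIso_left (GrothLib.GrpSchField.shear a).hom
    rw [GrothLib.GrpSchField.act_left_eq]; infer_instance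
  have h := GrothLib.GrpSchField.preimage_act_range_orbitMap a x
  rw [Set.preimage_sdiff, Set.preimage_sdiff, h,
    a.act.left.isOpenMap.preimage_closure_eq_closure_preimage a.act.left.continuous, h,
    ← (snd G X).left.isOpenMap.preimage_closure_eq_closure_preimage (snd G X).left.continuous]

/-- The orbit of a rational point of the boundary is in the boundary. -/
theorem range_orbitMap_subset (y : 𝟙_ (Over (Spec (CommRingCat.of K))) ⟶ X)
    (hy : y.left (IsLocalRing.closedPoint K) ∈
      closure (Set.range (a.orbitMap x).left) \ Set.range (a.orbitMap x).left) :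
    Set.range (a.orbitMap y).left ⊆
      closure (Set.range (a.orbitMap x).left) \ Set.range (a.orbitMap x).left := by
  rintro _ ⟨g, rfl⟩
  let φ : G ⟶ G ⊗ X := lift (𝟙 G) (toUnit G ≫ y)
  have e1 : φ ≫ a.act = a.orbitMap y := rfl
  rw [← e1, Over.comp_left, Scheme.Hom.comp_apply, ← Set.mem_preimage, preimage_act_boundary a x,
    Set.mem_preimage, ← Scheme.Hom.comp_apply, ← Over.comp_left, lift_snd, Over.comp_left, Scheme.Hom.comp_apply]
  rwa [show (toUnit G).left g = IsLocalRing.closedPoint K from Subsingleton.elim (α := Spec (CommRingCat.of K)) _ _]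

theorem isClosed_of_minimal [IsAlgClosed K] [LocallyOfFiniteType X.hom] [QuasiCompact X.hom]
    [LocallyOfFiniteType G.hom] [QuasiCompact G.hom]
    (hmin : ∀ y : 𝟙_ (Over (Spec (CommRingCat.of K))) ⟶ X,
      topologicalKrullDim (Set.range (a.orbitMap x).left) ≤ topologicalKrullDim (Set.range (a.orbitMap y).left)) :
    IsClosed (Set.range (a.orbitMap x).left) := by
  have : IsLocallyNoetherian X.left := LocallyOfFiniteType.isLocallyNoetherian X.hom
  have : QuasiCompact ((a.orbitMap x).left ≫ X.hom) := by rw [Over.w]; infer_instance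
  have : QuasiCompact (a.orbitMap x).left := QuasiCompact.of_comp _ X.hom
  have hlc := GrothLib.GrpSchField.isLocallyClosed_range_orbitMap a x
  have hne : (Set.range (a.orbitMap x).left).Nonempty :=
    ⟨_, Set.mem_range_self (η[G].left (IsLocalRing.closedPoint K))⟩
  by_contra hcl
  have hB : (closure (Set.range (a.orbitMap x).left) \ Set.range (a.orbitMap x).left).Nonempty := by
    rw [Set.nonempty_iff_ne_empty, Ne, Set.sdiff_eq_empty]
    exact fun h => hcl (closure_subset_iff_isClosed.1 h)
  have hBlc : IsLocallyClosed (closure (Set.range (a.orbitMap x).left) \ Set.range (a.orbitMap x).left) := by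
    obtain ⟨U, C, hU, hC, h⟩ := hlc
    refine IsClosed.isLocallyClosed ?_
    have : closure (Set.range (a.orbitMap x).left) \ Set.range (a.orbitMap x).left =
        closure (Set.range (a.orbitMap x).left) \ U := by
      have hC' : closure (Set.range (a.orbitMap x).left) ⊆ C :=
        hC.closure_subset_iff.2 (h ▸ Set.inter_subset_right)
      ext z
      exact ⟨fun hz => ⟨hz.1, fun hu => hz.2 (h.symm.subset ⟨hu, hC' hz.1⟩)⟩,
        fun hz => ⟨hz.1, fun hr => hz.2 (h.subset hr).1⟩⟩
    rw [this]
    exact isClosed_closure.sdiff hU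
  have := LocallyOfFiniteType.jacobsonSpace X.hom
  obtain ⟨z, hz, hzc⟩ := nonempty_inter_closedPoints hB hBlc
  let y : 𝟙_ (Over (Spec (CommRingCat.of K))) ⟶ X :=
    Over.homMk (pointOfClosedPoint X.hom z hzc) (by simp)
  have hy : y.left (IsLocalRing.closedPoint K) = z := pointOfClosedPoint_apply X.hom z hzc _
  have hsub := range_orbitMap_subset a x y (hy ▸ hz)
  exact absurd ((hmin y).trans (GrothLib.ConnDim.dim_mono hsub))
    (dim_boundary_lt X.hom hlc hne).not_ge

end GrothLib.OrbitDim
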